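import Groth.Agent.BlowUpX.Projective
import Groth.Agent.ProjX.AmpleEmb
import Groth.Agent.ZRLim.System
import Groth.Agent.AmpleX.Comp
import Groth.Agent.AmpleX.ExtendQS
import Groth.Agent.AmpleX.RelAffine
import Groth.Agent.InvX.GenLocusPull

/-!
# Ample sections on admissible blow-ups

If `L` is ample relative to `g` and `U` is the locus of a section of `L`, then every `U`-admissible
blow-up carries a relatively ample module with a section generating it over the preimage of `U`.
-/

set_option autoImplicit false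
set_option linter.style.haveILetI false
set_option backward.isDefEq.respectTransparency false
set_option backward.isDefEq.respectTransparency.types false

noncomputable section

universe u

open CategoryTheory CategoryTheory.Limits AlgebraicGeometry TopologicalSpace Opposite
open Groth.Agent.H23.PicMul

namespace Groth.Agent.YBlowX

open Groth.Agent

/-- Off its zero locus the module of an ideal is generated by one. -/
theorem exists_isFrame_idealMod {Y : Scheme.{u}} (J : Y.IdealSheafData) (G : Y.Opens)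
    (hG : ∀ y ∈ G, y ∉ (J.support : Set Y)) : ∃ t : Γ(ClSub.idealMod J, G), InvX.IsFrame t := by
  have hz : ∀ V : Y.Opens, V ≤ G → Subsingleton Γ(J.subscheme, J.subschemeι ⁻¹ᵁ V) := fun V hV => by
    have : J.subschemeι ⁻¹ᵁ V = ⊥ := eq_bot_iff.2 fun z hz => (hG _ (hV hz)
      (J.range_subschemeι ▸ ⟨z, rfl⟩)).elim
    rw [this]
    exact CommRingCat.subsingleton_of_isTerminal J.subscheme.sheaf.isTerminalOfEmpty
  obtain ⟨t, ht⟩ := OmegaLib.exists_idealSect_eq J G 1 (@Subsingleton.elim _ (hz G le_rfl) _ _)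
  refine ⟨t, fun V hV => ?_⟩
  have h1 : OmegaSh.idealSect J V (AModX.res _ hV t) = 1 := by
    refine (OmegaLib.idealSect_map J hV t).trans ?_
    rw [ht, map_one]
  constructor
  · intro a b hab
    have := congrArg (OmegaSh.idealSect J V) hab
    simp only [OmegaLib.idealSect_smul, h1, mul_one] at this
    exact this
  · intro k
    refine ⟨OmegaSh.idealSect J V k, OmegaLib.idealSect_injective J V ?_⟩
    rw [OmegaLib.idealSect_smul, h1, mul_one]

/-- An admissible blow-up for the locus of a section has an ample section of the same locus. -/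
theorem exists_ample_section {X X₀ : Scheme.{u}} [CompactSpace X] [CompactSpace X₀]
    [QuasiSeparatedSpace X₀] (g₀ : X₀ ⟶ X) {L : X₀.Modules} (hL : RelAmple.IsRelAmple g₀ L)
    (ε : Coh.structureModule X₀ ⟶ L) (K : ZRLim.Adm (CohB1.genLocus L ε)) :
    ∃ (M : K.obj.Modules) (σ : Coh.structureModule K.obj ⟶ M),
      RelAmple.IsRelAmple (K.π ≫ g₀) M ∧ K.π ⁻¹ᵁ CohB1.genLocus L ε ≤ CohB1.genLocus M σ := by
  have hLi := AmpleX.isInvertible_of_isRelAmple hL
  obtain ⟨A⟩ := SymX.nonempty_bundle (BlowUpX.isQCoh_idealMod K.1)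
  obtain ⟨r, hr, hrp, ⟨e⟩⟩ := SymX.exists_immersion_of_immPoints (BlowUpX.isQCoh_idealMod K.1)
    (BlowUpX.immPoints K.isBlowUp) A
  have hva := ProjX.isRelAmple_pullback_twist A.C.isGenDegOne A.isRelTwist r K.π hrp r.isEmbedding
  have hJ : RelAmple.IsRelAmple K.π (ClSub.idealMod (K.1.comap K.π)) := ⟨hva.1, fun V =>
    AmpleX.isAmple_of_iso ((Scheme.Modules.restrictFunctor (K.π ⁻¹ᵁ V.1).ι).mapIso e.symm) (hva.2 V)⟩
  obtain ⟨n₁, -, hn⟩ := AmpleX.eventually_isRelAmple_comp K.π g₀ hJ hL
  let L' := (Scheme.Modules.pullback K.π).obj L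
  have hL'i : PicF.IsInvertible L' := PicClLib.isInvertible_pullback K.π hLi
  obtain ⟨u⟩ := PicClLib.nonempty_pullback_structureModule K.π
  let s := u.symm.hom ≫ (Scheme.Modules.pullback K.π).map ε
  have hs : CohB1.genLocus L' s = K.π ⁻¹ᵁ CohB1.genLocus L ε := InvX.genLocus_pullback K.π hLi ε u.symm
  obtain ⟨t, ht⟩ := exists_isFrame_idealMod (K.1.comap K.π) (CohB1.genLocus L' s) fun y hy => by
    rw [hs] at hy
    rw [Scheme.IdealSheafData.support_comap]
    show ¬ K.π y ∈ (K.1.support : Set X₀)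
    rw [K.2.2]
    exact fun h => h hy
  obtain ⟨n₀, hn₀⟩ := AmpleX.exists_extend' (BlowUpX.isQCoh_idealMod _) hL'i s t
  obtain ⟨T, hT⟩ := hn₀ (max n₀ n₁) (le_max_left _ _)
  obtain ⟨e'⟩ : Nonempty (CohB1.tensorMod (ClSub.idealMod (K.1.comap K.π))
      ((Scheme.Modules.pullback K.π).obj (CohB1.tensorPow L (max n₀ n₁))) ≅
        CohB1.tensorMod (ClSub.idealMod (K.1.comap K.π)) (CohB1.tensorPow L' (max n₀ n₁))) := cl_eq_iff.1 (by
    rw [cl_tensor, cl_tensor, cl_tensorPow,
      show PicF.cl ((Scheme.Modules.pullback K.π).obj (CohB1.tensorPow L (max n₀ n₁))) =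
        PicF.pullCl K.π (PicF.cl (CohB1.tensorPow L (max n₀ n₁))) from rfl, cl_tensorPow, pullCl_pow]
    rfl)
  have hamp := hn (max n₀ n₁) (le_max_right _ _)
  refine ⟨_, InvX.ofSect T, ⟨hamp.1, fun V =>
    AmpleX.isAmple_of_iso ((Scheme.Modules.restrictFunctor ((K.π ≫ g₀) ⁻¹ᵁ V.1).ι).mapIso e') (hamp.2 V)⟩, ?_⟩
  rw [← hs]
  refine InvX.le_genLocus _ ?_
  rw [InvX.one_ofSect, hT]
  exact InvX.isFrame_tmul ht (AmpleX.isFrame_powElt (AmpleX.res_genLocus_frame s) _)

end Groth.Agent.YBlowX
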