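import Groth.Agent.YBlowX.Completion
import Groth.Agent.YBlowX.AdmBlow
import Groth.Agent.ZRLim.Birational
import Groth.Agent.RGLib.YBlow
import Groth.Agent.ModPairLib.Closure
import Groth.Agent.QCoh.ExtendFT

/-!
# Blow-ups are cofinal among modifications

A modification `Y ⟶ X' ⟶ X` of an affine morphism is dominated by a blow-up: finitely many functions
on `Y` define a completion `X₀` of `Y` with an open `U` affine over `X` mapping to `X'`, and the map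
extends after a `U`-admissible blow-up of `X₀`.
-/

set_option autoImplicit false
set_option linter.style.haveILetI false
set_option backward.isDefEq.respectTransparency false
set_option backward.isDefEq.respectTransparency.types false

noncomputable section

universe u

open CategoryTheory CategoryTheory.Limits AlgebraicGeometry TopologicalSpace Opposite

namespace Groth.Agent.YBlowX

open Groth.Agent

theorem appLE_injective {Y X : Scheme.{u}} (f : Y ⟶ X) [IsSchemeTheoreticallyDominant f] [QuasiCompact f] (U : X.Opens)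
    (V : Y.Opens) (h : V ≤ f ⁻¹ᵁ U) (h' : f ⁻¹ᵁ U ≤ V) : Function.Injective (f.appLE U V h).hom := by
  obtain rfl := le_antisymm h h'
  rw [Scheme.Hom.appLE_eq_app]
  exact f.app_injective U

/-- The property of a map on an open of `X₀` that extends `f'`. -/
structure Desc {X Y X' X₀ : Scheme.{u}} (g' : X' ⟶ X) (f' : Y ⟶ X') (f₀ : Y ⟶ X₀) (g₀ : X₀ ⟶ X)
    (W : X₀.Opens) where
  hom : (W : Scheme.{u}) ⟶ X'
  comp : hom ≫ g' = W.ι ≫ g₀
  agree : ∀ ⦃A : Scheme.{u}⦄ (a : A ⟶ (W : Scheme.{u})) (v : A ⟶ Y), a ≫ W.ι = v ≫ f₀ → a ≫ hom = v ≫ f'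

/-- A map to an affine target is determined by functions on a schematically dense subscheme. -/
theorem nonempty_desc {X Y X' X₀ : Scheme.{u}} (g' : X' ⟶ X) (f' : Y ⟶ X') (f₀ : Y ⟶ X₀)
    [IsSchemeTheoreticallyDominant f₀] [QuasiCompact f₀] (g₀ : X₀ ⟶ X) (hfac : f' ≫ g' = f₀ ≫ g₀)
    {V : X.Opens} (hV : IsAffineOpen V) {U : X'.Opens} (hU : IsAffineOpen U) (hUV : U ≤ g' ⁻¹ᵁ V)
    {W : X₀.Opens} (hW : IsAffineOpen W) (hWV : W ≤ g₀ ⁻¹ᵁ V)
    {D : Y.Opens} (hD : IsAffineOpen D) (hDW : D ≤ f₀ ⁻¹ᵁ W) (hWD : f₀ ⁻¹ᵁ W ≤ D) (hDU : D ≤ f' ⁻¹ᵁ U)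
    (hrange : ∀ a, ∃ c, f₀.appLE W D hDW c = f'.appLE U D hDU a) : Nonempty (Desc g' f' f₀ g₀ W) := by
  choose θ₀ hθ₀ using hrange
  have hinj := appLE_injective f₀ W D hDW hWD
  let θ : Γ(X', U) ⟶ Γ(X₀, W) := CommRingCat.ofHom
    { toFun := θ₀
      map_one' := hinj (by rw [hθ₀, map_one, map_one])
      map_mul' := fun a b => hinj (by rw [map_mul, hθ₀, hθ₀, hθ₀, map_mul])
      map_zero' := hinj (by rw [hθ₀, map_zero, map_zero])
      map_add' := fun a b => hinj (by rw [map_add, hθ₀, hθ₀, hθ₀, map_add]) }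
  have hθ : θ ≫ f₀.appLE W D hDW = f'.appLE U D hDU := CommRingCat.hom_ext (RingHom.ext hθ₀)
  have hbase : g'.appLE V U hUV ≫ θ = g₀.appLE V W hWV := by
    refine CommRingCat.hom_ext (RingHom.ext fun a => hinj ?_)
    have h1 := congr($(Scheme.Hom.appLE_comp_appLE f' g' V U D hUV hDU).hom a)
    have h2 := congr($(Scheme.Hom.appLE_comp_appLE f₀ g₀ V W D hWV hDW).hom a)
    have h3 : ∀ (q : Y ⟶ X) (_ : q = f₀ ≫ g₀) (h : D ≤ q ⁻¹ᵁ V),
        q.appLE V D h a = (f₀ ≫ g₀).appLE V D (hDW.trans (f₀.preimage_mono hWV)) a := by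
      rintro _ rfl h; rfl
    exact (hθ₀ _).trans (h1.trans ((h3 _ hfac _).trans h2.symm))
  refine ⟨⟨hW.isoSpec.hom ≫ Spec.map θ ≫ hU.fromSpec, ?_, fun A a v hav => ?_⟩⟩
  · rw [Category.assoc, Category.assoc, ← hV.SpecMap_appLE_fromSpec g' hU hUV, ← Spec.map_comp_assoc, hbase,
      hV.SpecMap_appLE_fromSpec g₀ hW hWV, IsAffineOpen.isoSpec_hom_fromSpec_assoc]
  · have hr : Set.range v ⊆ Set.range D.ι := by
      rintro _ ⟨z, rfl⟩
      rw [Scheme.Opens.range_ι]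
      refine hWD ?_
      show f₀ (v z) ∈ W
      rw [show f₀ (v z) = W.ι (a z) from (congrArg (fun ψ : A ⟶ X₀ => ψ z) hav).symm]
      exact (a z).2
    have hv := IsOpenImmersion.lift_fac D.ι v hr
    have ha : a = IsOpenImmersion.lift D.ι v hr ≫ f₀.resLE W D hDW := by
      rw [← cancel_mono W.ι, Category.assoc, Scheme.Hom.resLE_comp_ι, ← Category.assoc, hv, hav]
    have hsq : f₀.resLE W D hDW ≫ hW.isoSpec.hom = hD.isoSpec.hom ≫ Spec.map (f₀.appLE W D hDW) := by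
      rw [← cancel_mono hW.fromSpec, Category.assoc, Category.assoc, IsAffineOpen.isoSpec_hom_fromSpec,
        hW.SpecMap_appLE_fromSpec f₀ hD hDW, IsAffineOpen.isoSpec_hom_fromSpec_assoc, Scheme.Hom.resLE_comp_ι]
    rw [ha, Category.assoc, reassoc_of% hsq, ← Spec.map_comp_assoc, hθ, hU.SpecMap_appLE_fromSpec f' hD hDU,
      IsAffineOpen.isoSpec_hom_fromSpec_assoc, ← Category.assoc, hv]

/-- Gluing the local extensions. -/
theorem exists_desc_glue {X Y X' X₀ : Scheme.{u}} (g' : X' ⟶ X) [IsSeparated g'] (f' : Y ⟶ X')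
    (f₀ : Y ⟶ X₀) [IsSchemeTheoreticallyDominant f₀] [QuasiCompact f₀] (g₀ : X₀ ⟶ X)
    {P : Type u} (W : P → X₀.Opens) (h : ∀ p, Nonempty (Desc g' f' f₀ g₀ (W p))) :
    Nonempty (Desc g' f' f₀ g₀ (⨆ p, W p)) := by
  let U₀ := ⨆ p, W p
  let d : ∀ p, Desc g' f' f₀ g₀ (W p) := fun p => (h p).some
  let O : P → U₀.toScheme.Opens := fun p => U₀.ι ⁻¹ᵁ W p
  have hO : IsOpenCover O := IsOpenCover.mk (top_le_iff.1 fun z _ => by
    obtain ⟨p, hp⟩ := Opens.mem_iSup.1 z.2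
    exact Opens.mem_iSup.2 ⟨p, hp⟩)
  let q : ∀ p, (O p : Scheme.{u}) ⟶ X' := fun p => U₀.ι.resLE (W p) (O p) le_rfl ≫ (d p).hom
  have hq : ∀ p, q p ≫ g' = (O p).ι ≫ U₀.ι ≫ g₀ := fun p => by
    rw [Category.assoc, (d p).comp, Scheme.Hom.resLE_comp_ι_assoc]
  have hqa : ∀ p ⦃A : Scheme.{u}⦄ (a : A ⟶ (O p : Scheme.{u})) (v : A ⟶ Y),
      a ≫ (O p).ι ≫ U₀.ι = v ≫ f₀ → a ≫ q p = v ≫ f' := fun p A a v hav => by
    rw [← Category.assoc]
    exact (d p).agree _ v (by rw [Category.assoc, Scheme.Hom.resLE_comp_ι, hav])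
  clear_value q
  let 𝒰 := U₀.toScheme.openCoverOfIsOpenCover O hO
  have key : ∀ a b : P, U₀.toScheme.homOfLE (inf_le_left : O a ⊓ O b ≤ O a) ≫ q a =
      U₀.toScheme.homOfLE (inf_le_right : O a ⊓ O b ≤ O b) ≫ q b := by
    intro a b
    let O' : X₀.Opens := U₀.ι ''ᵁ (O a ⊓ O b)
    haveI := ModPairLib.isSchemeTheoreticallyDominant_restrict f₀ O'
    let w : (f₀ ⁻¹ᵁ O' : Scheme.{u}) ⟶ (O a ⊓ O b : U₀.toScheme.Opens) :=
      (f₀ ∣_ O') ≫ (U₀.ι.isoImage (O a ⊓ O b)).inv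
    haveI : IsSchemeTheoreticallyDominant w := inferInstance
    have hw : w ≫ (O a ⊓ O b).ι ≫ U₀.ι = (f₀ ⁻¹ᵁ O').ι ≫ f₀ := by
      rw [Category.assoc, Scheme.Hom.isoImage_inv_ι, morphismRestrict_ι]
    refine ZRLim.hom_ext_dense w g' ?_ ?_
    · rw [Category.assoc, Category.assoc, hq, hq, Scheme.homOfLE_ι_assoc, Scheme.homOfLE_ι_assoc]
    · rw [← Category.assoc, ← Category.assoc, hqa a _ _ (by rw [Category.assoc, Scheme.homOfLE_ι_assoc, hw]),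
        hqa b _ _ (by rw [Category.assoc, Scheme.homOfLE_ι_assoc, hw])]
  have hglue : ∀ a b, pullback.fst (𝒰.f a) (𝒰.f b) ≫ q a = pullback.snd _ _ ≫ q b := by
    intro a b
    have hI := isPullback_opens_inf (O a) (O b)
    rw [← cancel_epi hI.isoPullback.hom]
    erw [hI.isoPullback_hom_fst_assoc, hI.isoPullback_hom_snd_assoc]
    exact key a b
  let R : U₀.toScheme ⟶ X' := 𝒰.glueMorphisms q hglue
  have hR : ∀ p, (O p).ι ≫ R = q p := fun p => Scheme.Cover.ι_glueMorphisms 𝒰 _ _ p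
  refine ⟨⟨R, Scheme.Cover.hom_ext 𝒰 _ _ fun (p : P) => ?_, fun A a v hav => ?_⟩⟩
  · show (O p).ι ≫ R ≫ g' = (O p).ι ≫ U₀.ι ≫ g₀
    rw [← Category.assoc, hR, hq]
  · refine Scheme.Cover.hom_ext (A.openCoverOfIsOpenCover (fun p => a ⁻¹ᵁ O p) (hO.comap a.base.1)) _ _
      fun (p : P) => ?_
    show (a ⁻¹ᵁ O p).ι ≫ a ≫ R = (a ⁻¹ᵁ O p).ι ≫ v ≫ f'
    rw [← morphismRestrict_ι_assoc, hR, hqa p (a ∣_ O p) ((a ⁻¹ᵁ O p).ι ≫ v) (by
      rw [morphismRestrict_ι_assoc, hav, Category.assoc]), Category.assoc]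

theorem mem_closure_range_union {R A : Type u} [CommRing R] [CommRing A] (φ : R →+* A) (hφ : φ.FiniteType) :
    ∃ s : Finset A, Subring.closure (Set.range φ ∪ ↑s) = ⊤ := by
  letI := φ.toAlgebra
  obtain ⟨s, hs⟩ := (hφ : Algebra.FiniteType R A).1
  refine ⟨s, ?_⟩
  have := congrArg Subalgebra.toSubring hs
  rw [Algebra.adjoin_eq_ring_closure, Algebra.top_toSubring] at this
  exact this

/-- Finitely many functions make a modification factor through every completion containing them. -/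
theorem exists_functions {X Y X' : Scheme.{u}} (f : Y ⟶ X) [IsAffineHom f] (f' : Y ⟶ X') (g' : X' ⟶ X)
    [LocallyOfFiniteType g'] (hf' : f' ≫ g' = f) {V : X.Opens} (hV : IsAffineOpen V) :
    ∃ T : Set Γ(Y, f ⁻¹ᵁ V), T.Finite ∧
      ∀ (X₀ : Scheme.{u}) (f₀ : Y ⟶ X₀) (g₀ : X₀ ⟶ X) (_ : f₀ ≫ g₀ = f) (_ : IsSchemeTheoreticallyDominant f₀)
        (_ : QuasiCompact f₀)
        (W : X₀.Opens) (_ : IsAffineOpen W) (_ : W ≤ g₀ ⁻¹ᵁ V) (le : f ⁻¹ᵁ V ≤ f₀ ⁻¹ᵁ W),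
        (∀ a ∈ T, ∃ c, f₀.appLE W (f ⁻¹ᵁ V) le c = a) →
          ∃ (P : Type u) (W' : P → X₀.Opens), ⨆ p, W' p = W ∧ ∀ p, Nonempty (Desc g' f' f₀ g₀ (W' p)) := by
  classical
  have hYV : IsAffineOpen (f ⁻¹ᵁ V) := hV.preimage f
  have hy : ∀ y : (f ⁻¹ᵁ V : Y.Opens), ∃ (U : X'.Opens) (h : Γ(Y, f ⁻¹ᵁ V)),
      IsAffineOpen U ∧ U ≤ g' ⁻¹ᵁ V ∧ Y.basicOpen h ≤ f' ⁻¹ᵁ U ∧ y.1 ∈ Y.basicOpen h := fun y => by
    have hy' : f' y.1 ∈ g' ⁻¹ᵁ V := by
      show g' (f' y.1) ∈ V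
      rw [← Scheme.Hom.comp_apply, hf']
      exact y.2
    obtain ⟨U, hU, hyU, hle⟩ := exists_isAffineOpen_mem_and_subset hy'
    obtain ⟨h, h1, h2⟩ := hYV.exists_basicOpen_le (V := f' ⁻¹ᵁ U) ⟨y.1, hyU⟩ y.2
    exact ⟨U, h, hU, hle, h1, h2⟩
  choose U h hU hUV hhU hyh using hy
  obtain ⟨S, hS⟩ := hYV.isCompact.elim_finite_subcover (fun y => (Y.basicOpen (h y) : Set Y))
    (fun y => (Y.basicOpen (h y)).2) fun y hy => Set.mem_iUnion.2 ⟨⟨y, hy⟩, hyh ⟨y, hy⟩⟩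
  have hspan : Ideal.span (Set.range fun p : {y // y ∈ S} => h p.1) = ⊤ := by
    rw [← hYV.self_le_iSup_basicOpen_iff]
    intro y hy
    obtain ⟨p, hp, hyp⟩ := Set.mem_iUnion₂.1 (hS hy)
    exact Opens.mem_iSup.2 ⟨⟨_, ⟨p, hp⟩, rfl⟩, hyp⟩
  obtain ⟨k, hk⟩ := Ideal.mem_span_range_iff_exists_fun.1
    ((Ideal.eq_top_iff_one _).1 hspan)
  choose G hG using fun p : {y // y ∈ S} => mem_closure_range_union (g'.appLE V (U p.1) (hUV p.1)).hom
    (g'.finiteType_appLE hV (hU p.1) (hUV p.1))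
  have hfrac : ∀ (p : {y // y ∈ S}) (x : G p), ∃ (b : Γ(Y, f ⁻¹ᵁ V)) (n : ℕ),
      f'.appLE (U p.1) (Y.basicOpen (h p.1)) (hhU p.1) x.1 *
        Y.presheaf.map (homOfLE (Y.basicOpen_le (h p.1))).op (h p.1) ^ n =
      Y.presheaf.map (homOfLE (Y.basicOpen_le (h p.1))).op b := fun p x => by
    haveI := hYV.isLocalization_basicOpen (h p.1)
    obtain ⟨⟨b, _, n, rfl⟩, hb⟩ := IsLocalization.surj (Submonoid.powers (h p.1))
      (f'.appLE (U p.1) (Y.basicOpen (h p.1)) (hhU p.1) x.1)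
    refine ⟨b, n, ?_⟩
    rw [← map_pow]
    exact hb
  choose b n hb using hfrac
  refine ⟨Set.range (fun p : {y // y ∈ S} => h p.1) ∪ Set.range k ∪
      Set.range (fun q : Σ p : {y // y ∈ S}, G p => b q.1 q.2),
    ((Set.finite_range _).union (Set.finite_range _)).union (Set.finite_range _), ?_⟩
  intro X₀ f₀ g₀ hfg hdom hqc W hW hWV le hT
  haveI := hdom
  haveI := hqc
  have hWY : f₀ ⁻¹ᵁ W ≤ f ⁻¹ᵁ V := by
    rw [← hfg]
    exact f₀.preimage_mono hWV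
  have hinj := appLE_injective f₀ W _ le hWY
  choose H hH using fun p : {y // y ∈ S} => hT (h p.1) (Or.inl (Or.inl ⟨p, rfl⟩))
  choose K hK using fun p : {y // y ∈ S} => hT (k p) (Or.inl (Or.inr ⟨p, rfl⟩))
  refine ⟨{y // y ∈ S}, fun p => X₀.basicOpen (H p), le_antisymm (iSup_le fun p => X₀.basicOpen_le _) ?_,
    fun p => ?_⟩
  · have hsum : ∑ p, K p * H p = 1 := hinj (by
      rw [map_sum, map_one, ← hk]
      exact Finset.sum_congr rfl fun p _ => by rw [map_mul, hH, hK])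
    have h1 : Ideal.span (Set.range H) = ⊤ := (Ideal.eq_top_iff_one _).2
      (Ideal.mem_span_range_iff_exists_fun.2 ⟨K, hsum⟩)
    refine ((hW.self_le_iSup_basicOpen_iff).2 h1).trans (iSup_le fun z => ?_)
    obtain ⟨_, p, rfl⟩ := z
    exact le_iSup (fun p => X₀.basicOpen (H p)) p
  · have hD : Y.basicOpen (h p.1) = f₀ ⁻¹ᵁ X₀.basicOpen (H p) := by
      rw [← hH p, Scheme.Hom.appLE, CommRingCat.comp_apply, Scheme.basicOpen_res, ← Scheme.preimage_basicOpen]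
      refine inf_eq_right.2 ?_
      exact (f₀.preimage_mono (X₀.basicOpen_le _)).trans hWY
    refine nonempty_desc g' f' f₀ g₀ (hf'.trans hfg.symm) hV (hU p.1) (hUV p.1) (hW.basicOpen (H p))
      ((X₀.basicOpen_le _).trans hWV) (hYV.basicOpen (h p.1)) hD.le hD.ge (hhU p.1) fun a => ?_
    let ρ := (f₀.appLE (X₀.basicOpen (H p)) (Y.basicOpen (h p.1)) hD.le).hom
    have hres : ∀ c : Γ(X₀, W), ρ (X₀.presheaf.map (homOfLE (X₀.basicOpen_le (H p))).op c) =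
        Y.presheaf.map (homOfLE (Y.basicOpen_le (h p.1))).op (f₀.appLE W (f ⁻¹ᵁ V) le c) := fun c => by
      show (X₀.presheaf.map _ ≫ f₀.appLE _ _ _) c = (f₀.appLE _ _ _ ≫ Y.presheaf.map _) c
      rw [Scheme.Hom.map_appLE, Scheme.Hom.appLE_map]
    suffices (f'.appLE (U p.1) (Y.basicOpen (h p.1)) (hhU p.1)).hom a ∈ ρ.range from this
    have ha : a ∈ Subring.closure (Set.range (g'.appLE V (U p.1) (hUV p.1)).hom ∪ ↑(G p)) := by
      rw [hG p]; trivial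
    refine Subring.mem_comap.1 ((Subring.closure_le (t := ρ.range.comap
      (f'.appLE (U p.1) (Y.basicOpen (h p.1)) (hhU p.1)).hom)).2 ?_ ha)
    rintro z (⟨r, rfl⟩ | hz)
    · refine ⟨g₀.appLE V _ ((X₀.basicOpen_le _).trans hWV) r, ?_⟩
      have h1 := congr($(Scheme.Hom.appLE_comp_appLE f' g' V (U p.1) (Y.basicOpen (h p.1)) (hUV p.1) (hhU p.1)).hom r)
      have h2 := congr($(Scheme.Hom.appLE_comp_appLE f₀ g₀ V (X₀.basicOpen (H p)) (Y.basicOpen (h p.1))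
        ((X₀.basicOpen_le _).trans hWV) hD.le).hom r)
      have h3 : ∀ (q : Y ⟶ X) (_ : q = f) (e : Y.basicOpen (h p.1) ≤ q ⁻¹ᵁ V),
          q.appLE V _ e r = f.appLE V _ (Y.basicOpen_le (h p.1)) r := by rintro _ rfl e; rfl
      exact h2.trans ((h3 _ hfg _).trans ((h3 _ hf' _).symm.trans h1.symm))
    · obtain ⟨c, hc⟩ := hT (b p ⟨z, hz⟩) (Or.inr ⟨⟨p, ⟨z, hz⟩⟩, rfl⟩)
      have hu : IsUnit (X₀.presheaf.map (homOfLE (X₀.basicOpen_le (H p))).op (H p)) :=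
        RingedSpace.isUnit_res_basicOpen X₀.toRingedSpace (H p)
      have hu' : IsUnit (Y.presheaf.map (homOfLE (Y.basicOpen_le (h p.1))).op (h p.1)) :=
        RingedSpace.isUnit_res_basicOpen Y.toRingedSpace (h p.1)
      refine ⟨X₀.presheaf.map (homOfLE (X₀.basicOpen_le (H p))).op c * ↑(hu.unit⁻¹ ^ n p ⟨z, hz⟩),
        (hu'.pow (n p ⟨z, hz⟩)).mul_left_inj.1 ?_⟩
      have e : Y.presheaf.map (homOfLE (Y.basicOpen_le (h p.1))).op (h p.1) =
          ρ (X₀.presheaf.map (homOfLE (X₀.basicOpen_le (H p))).op (H p)) := by rw [hres, hH]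
      rw [hb p ⟨z, hz⟩, ← hc, ← hres, map_mul, mul_assoc, e, ← map_pow, ← map_mul,
        show (hu.unit⁻¹ ^ n p ⟨z, hz⟩).val * _ ^ n p ⟨z, hz⟩ = 1 by
          rw [Units.val_pow_eq_pow_val, ← mul_pow, IsUnit.val_inv_mul, one_pow],
        map_one, mul_one]

/-- A modification is dominated by a blow-up. -/
theorem exists_yBlowUp {X Y : Scheme.{u}} (f : Y ⟶ X)
    [CompactSpace X] [QuasiSeparatedSpace X] [IsAffineHom f]
    {X' : Scheme.{u}} (f' : Y ⟶ X') (g' : X' ⟶ X) [IsProper g'] (hf' : f' ≫ g' = f) :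
    ∃ (X₁ : Scheme.{u}) (f₁ : Y ⟶ X₁) (g₁ : X₁ ⟶ X) (d : X₁ ⟶ X'),
      (IsSchemeTheoreticallyDominant f₁ ∧ IsProper g₁ ∧ f₁ ≫ g₁ = f ∧
        ∃ (L : X₁.Modules) (ε : Coh.structureModule X₁ ⟶ L),
          RelAmple.IsRelAmple g₁ L ∧ IsIso ((Scheme.Modules.pullback f₁).map ε)) ∧
      f₁ ≫ d = f' ∧ d ≫ g' = g₁ := by
  classical
  obtain ⟨S, hS⟩ := isCompact_univ.elim_finite_subcover
    (fun V : X.affineOpens => (V.1 : Set X)) (fun V => V.1.2) (fun x _ => by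
      obtain ⟨V, hV, hxV, -⟩ := exists_isAffineOpen_mem_and_subset (x := x) (U := ⊤) trivial
      exact Set.mem_iUnion.2 ⟨⟨V, hV⟩, hxV⟩)
  choose T hTfin hT using fun V : {V // V ∈ S} => exists_functions f f' g' hf' V.1.2
  have hq : Coh.IsQCoh ((Scheme.Modules.pushforward f).obj (Coh.structureModule Y)) :=
    QCoh.isQCoh_pushforward f QCoh.isQCoh_structureModule
  choose N hN hTN using fun V : {V // V ∈ S} => QCoh.exists_ftOn_contains hq V.1.2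
    (QCoh.extStep_qcqs V.1.2.isCompact)
    (show Set Γ((Scheme.Modules.pushforward f).obj (Coh.structureModule Y), V.1.1) from T V) (hTfin V)
  obtain ⟨X₀, f₀, g₀, L, ε, hdom, hqc, hprop, hfg, hL, hεY, hloc⟩ := exists_completion f
    (fun V : {V // V ∈ S} => (N V).toModules) (fun V => QCoh.isQCoh_of_ftOn hq (hN V))
    (fun V => QCoh.isFT_of_ftOn hq (hN V)) (fun V => (N V).ι)
  haveI := hdom
  haveI := hqc
  haveI := hprop
  haveI : CompactSpace X₀ := QuasiCompact.compactSpace_of_compactSpace g₀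
  haveI : QuasiSeparatedSpace X₀ := quasiSeparatedSpace_of_quasiSeparated g₀
  let U₀ := CohB1.genLocus L ε
  have hW : ∀ V : {V // V ∈ S}, ∃ (P : Type u) (W' : P → X₀.Opens),
      ⨆ p, W' p = g₀ ⁻¹ᵁ V.1.1 ⊓ U₀ ∧ ∀ p, Nonempty (Desc g' f' f₀ g₀ (W' p)) := fun V => by
    have le : f ⁻¹ᵁ V.1.1 ≤ f₀ ⁻¹ᵁ (g₀ ⁻¹ᵁ V.1.1 ⊓ U₀) := by
      rw [Scheme.Hom.preimage_inf, ← Scheme.Hom.comp_preimage, hfg, hεY, inf_top_eq]
    refine hT V X₀ f₀ g₀ hfg hdom hqc _ (hloc _ V.1.2).1 inf_le_left le fun a ha => ?_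
    obtain ⟨e, he⟩ := (N V).exists_app_eq (hTN V ha)
    obtain ⟨c, hc⟩ := (hloc _ V.1.2).2 V e le
    exact ⟨c, hc.trans he⟩
  choose P W' hsup hdesc using hW
  have hU₀ : ⨆ q : Σ V : {V // V ∈ S}, P V, W' q.1 q.2 = U₀ := by
    refine le_antisymm (iSup_le fun q => ?_) fun x hx => ?_
    · exact ((le_iSup (W' q.1) q.2).trans (hsup q.1).le).trans inf_le_right
    · obtain ⟨V, hV, hxV⟩ := Set.mem_iUnion₂.1 (hS (Set.mem_univ (g₀ x)))
      obtain ⟨p, hp⟩ := Opens.mem_iSup.1 ((hsup ⟨V, hV⟩).ge ⟨hxV, hx⟩)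
      exact Opens.mem_iSup.2 ⟨⟨⟨V, hV⟩, p⟩, hp⟩
  obtain ⟨δ⟩ : Nonempty (Desc g' f' f₀ g₀ U₀) :=
    hU₀ ▸ exists_desc_glue g' f' f₀ g₀ _ fun q : Σ V : {V // V ∈ S}, P V => hdesc q.1 q.2
  let s : U₀.toScheme ⟶ pullback g' g₀ := pullback.lift δ.hom U₀.ι δ.comp
  have hs : s ≫ ZRLim.Bir.topHom (pullback.snd g' g₀) = X₀.homOfLE (le_top : U₀ ≤ ⊤) := by
    rw [← cancel_mono (⊤ : X₀.Opens).ι, Category.assoc, ZRLim.Bir.topHom_ι, Scheme.homOfLE_ι,
      pullback.lift_snd]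
  haveI := InvX.isAffineHom_genLocus_ι (AmpleX.isInvertible_of_isRelAmple hL) ε
  have hc : CompactSpace U₀.toScheme := QuasiCompact.compactSpace_of_compactSpace U₀.ι
  haveI := ZRLim.Adm.nonempty (U := U₀) (isCompact_iff_compactSpace.mpr hc)
  obtain ⟨K, h, hh⟩ := ZRLim.exists_extension (W := (⊤ : X₀.Opens))
    (f := ZRLim.Bir.topHom (pullback.snd g' g₀)) (by simpa using isCompact_univ) hs
  haveI := K.isIso_restrict
  let σK := ZRLim.Bir.sec' K.π (U := U₀)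
  have hσK : σK ≫ K.π = U₀.ι := ZRLim.Bir.sec'_f K.π
  let j : K.obj ⟶ (K.π ⁻¹ᵁ (⊤ : X₀.Opens) : K.obj.Opens).toScheme := K.obj.topIso.inv
  have hj : j ≫ (K.π ⁻¹ᵁ (⊤ : X₀.Opens)).ι = 𝟙 K.obj := K.obj.topIso.inv_hom_id
  have hrf : Set.range f₀ ⊆ Set.range U₀.ι := by
    rintro _ ⟨y, rfl⟩
    rw [Scheme.Opens.range_ι]
    exact hεY.ge (trivial : y ∈ (⊤ : Y.Opens))
  let fU := IsOpenImmersion.lift U₀.ι f₀ hrf
  have hfU : fU ≫ U₀.ι = f₀ := IsOpenImmersion.lift_fac _ _ _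
  haveI : QuasiCompact (fU ≫ U₀.ι) := by rw [hfU]; infer_instance
  haveI : QuasiCompact fU := QuasiCompact.of_comp fU U₀.ι
  haveI : IsSchemeTheoreticallyDominant fU := by
    haveI := ModPairLib.isSchemeTheoreticallyDominant_restrict f₀ U₀
    have e : fU = Y.topIso.inv ≫ Y.homOfLE hεY.ge ≫ (f₀ ∣_ U₀) := by
      rw [← cancel_mono U₀.ι, hfU, Category.assoc, Category.assoc, morphismRestrict_ι,
        Scheme.homOfLE_ι_assoc, ← Scheme.topIso_hom, Iso.inv_hom_id_assoc]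
    haveI : IsIso (Y.homOfLE hεY.ge) := ⟨Y.homOfLE le_top, by simp, by simp⟩
    rw [e]
    infer_instance
  haveI : IsSchemeTheoreticallyDominant σK := by
    show IsSchemeTheoreticallyDominant (inv (K.π ∣_ U₀) ≫ (K.π ⁻¹ᵁ U₀).ι)
    infer_instance
  obtain ⟨M, τ, hM, hτ⟩ := exists_ample_section g₀ hL ε K
  refine ⟨K.obj, fU ≫ σK, K.π ≫ g₀, j ≫ h ≫ pullback.fst g' g₀, ⟨inferInstance, inferInstance, ?_, M, τ,
    hM, RGLib.YBlow.isIso_pullback_map _ τ (AmpleX.isInvertible_of_isRelAmple hM) ?_⟩, ?_, ?_⟩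
  · rw [Category.assoc, reassoc_of% hσK, reassoc_of% hfU, hfg]
  · refine top_le_iff.1 fun y _ => hτ ?_
    show K.π ((fU ≫ σK) y) ∈ U₀
    rw [show K.π ((fU ≫ σK) y) = (fU ≫ σK ≫ K.π) y from rfl, hσK, hfU]
    exact hrf ⟨y, rfl⟩ |> fun ⟨z, hz⟩ => hz ▸ z.2
  · have h1 : (σK ≫ j) ≫ h = s := by
      rw [hh.agree (σK ≫ j) (𝟙 _) (by rw [Category.assoc, reassoc_of% hj, hσK, Category.id_comp]),
        Category.id_comp]
    rw [Category.assoc, show σK ≫ j ≫ h ≫ pullback.fst g' g₀ = ((σK ≫ j) ≫ h) ≫ pullback.fst g' g₀ by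
      simp only [Category.assoc], h1, pullback.lift_fst, δ.agree fU (𝟙 Y) (by rw [hfU, Category.id_comp]),
      Category.id_comp]
  · have h2 := hh.comp_eq
    rw [ZRLim.Bir.topHom_ι] at h2
    rw [Category.assoc, Category.assoc, pullback.condition, reassoc_of% h2, reassoc_of% hj]

end Groth.Agent.YBlowX
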