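import Groth.Agent.SymX.ProjectiveClosed
import Groth.Agent.SymX.FiniteImm
import Groth.Agent.ProjX.AmpleEmb
import Groth.Agent.InvX.GenLocusPull
import Groth.Agent.Triage.SchDense
import Groth.Agent.S4418
import Groth.Prelude.Def_ClSub2

/-!
# Completing an affine morphism by sections of modules of finite type

For an affine morphism `f : Y ⟶ X` and finitely many morphisms `θ i : T i ⟶ f_* O_Y`, the closure of
`Y` in the projective bundle of `O ⊕ ⨁ T i` is a proper `X`-scheme with a relatively ample module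
and a section of it whose locus is affine over `X`; the functions there realise the images of `θ i`.
-/

set_option autoImplicit false
set_option linter.style.haveILetI false
set_option backward.isDefEq.respectTransparency false
set_option backward.isDefEq.respectTransparency.types false

noncomputable section

universe u

open CategoryTheory CategoryTheory.Limits AlgebraicGeometry TopologicalSpace Opposite

namespace Groth.Agent.YBlowX

open Groth.Agent Groth.Agent.SymX

attribute [local instance] Groth.Agent.QCoh.hasFiniteBiproducts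

/-- The identity of a projective bundle is compatible with the tautological sections. -/
theorem isCompat'_id {X : Scheme.{u}} {E : X.Modules} (A : Bundle E) :
    IsCompat' A.φ A.p (show E ⟶ (Scheme.Modules.pushforward A.p).obj A.O1 from A.φ) (𝟙 A.P) := by
  intro U U' hU hU' e e' W hW hW' c hc T hT h h'
  have := congrArg (AModX.res A.O1 (hT : T ≤ W)) hc
  exact (AModX.res_res _ _ _).symm.trans (this.trans ((AModX.res_smul _ _ _).trans
    (congrArg (_ • ·) (AModX.res_res _ _ _))))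

/-- The locus of a tautological section is the standard open. -/
theorem locus_ph {X : Scheme.{u}} {E : X.Modules} (A : Bundle E) {U : X.Opens} (hU : IsAffineOpen U)
    (e : Γ(E, U)) : AmpleX.locus (ph (φ := A.φ) e) = dOpen A.p A.chart A.j U hU e := by
  refine le_antisymm ?_ (le_locus_taut A.isRelTwist A.C.isGrSymAlg.2 U hU e _ (A.isTaut U hU e))
  intro x hx
  obtain ⟨z, hz, rfl⟩ := ((isCompat'_id A).isCompat (AmpleX.locus (ph (φ := A.φ) e))).le_dOpen A.C
    A.isRelTwist A.isTaut (r := (AmpleX.locus (ph (φ := A.φ) e)).ι ≫ 𝟙 A.P)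
    (by rw [Category.comp_id]) hU e (AmpleX.locus_le _) le_rfl (AmpleX.isFrame_res_locus _) hx
  exact hz

theorem isQCoh_option {X : Scheme.{u}} {ι : Type u} (T : ι → X.Modules) (hq : ∀ i, Coh.IsQCoh (T i)) :
    ∀ o : Option ι, Coh.IsQCoh (o.elim (Coh.structureModule X) T)
  | none => QCoh.isQCoh_structureModule
  | some i => hq i

theorem isFT_structureModule (X : Scheme.{u}) : CohB1.IsFT (Coh.structureModule X) :=
  QCoh.isFT_of_finite QCoh.isQCoh_structureModule (fun U : X.affineOpens => U.1)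
    (iSup_affineOpens_eq_top X) (fun U => U.2) fun U => (inferInstance : Module.Finite Γ(X, U.1) Γ(X, U.1))

/-- The completion of an affine morphism. -/
theorem exists_completion {X Y : Scheme.{u}} (f : Y ⟶ X) [IsAffineHom f] {ι : Type u} [Fintype ι]
    (T : ι → X.Modules) (hq : ∀ i, Coh.IsQCoh (T i)) (hft : ∀ i, CohB1.IsFT (T i))
    (θ : ∀ i, T i ⟶ (Scheme.Modules.pushforward f).obj (Coh.structureModule Y)) :
    ∃ (X₀ : Scheme.{u}) (f₀ : Y ⟶ X₀) (g₀ : X₀ ⟶ X) (L : X₀.Modules) (ε : Coh.structureModule X₀ ⟶ L),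
      IsSchemeTheoreticallyDominant f₀ ∧ QuasiCompact f₀ ∧ IsProper g₀ ∧ f₀ ≫ g₀ = f ∧
      RelAmple.IsRelAmple g₀ L ∧ f₀ ⁻¹ᵁ CohB1.genLocus L ε = ⊤ ∧
      ∀ V : X.Opens, IsAffineOpen V → IsAffineOpen (g₀ ⁻¹ᵁ V ⊓ CohB1.genLocus L ε) ∧
        ∀ (i : ι) (e : Γ(T i, V)) (le : f ⁻¹ᵁ V ≤ f₀ ⁻¹ᵁ (g₀ ⁻¹ᵁ V ⊓ CohB1.genLocus L ε)),
          ∃ c : Γ(X₀, g₀ ⁻¹ᵁ V ⊓ CohB1.genLocus L ε),
            f₀.appLE _ (f ⁻¹ᵁ V) le c = (show Γ(Y, f ⁻¹ᵁ V) from (θ i).app V e) := by
  classical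
  let T' : Option ι → X.Modules := fun o => o.elim (Coh.structureModule X) T
  have hq' : ∀ o, Coh.IsQCoh (T' o) := isQCoh_option T hq
  have hft' : ∀ o, CohB1.IsFT (T' o) := fun o => by
    cases o with
    | none => exact isFT_structureModule X
    | some i => exact hft i
  let comp : ∀ o, T' o ⟶ (Scheme.Modules.pushforward f).obj (Coh.structureModule Y) := fun o =>
    match o with
    | none => ClSub.unitToPush f
    | some i => θ i
  have hE : Coh.IsQCoh (⨁ T') := QCoh.isQCoh_biproduct T' hq'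
  have hEft : CohB1.IsFT (⨁ T') := isFT_biproduct T' hq' hft'
  let Θ : (⨁ T') ⟶ (Scheme.Modules.pushforward f).obj (Coh.structureModule Y) := biproduct.desc comp
  have hΘ : ∀ (o : Option ι) (V : X.Opens) (z : Γ(T' o, V)),
      th f Θ ((biproduct.ι T' o).app V z) = (comp o).app V z := fun o V z =>
    congrArg (fun χ : T' o ⟶ _ => χ.app V z) (biproduct.ι_desc _ _)
  let e₀ : ∀ V : X.Opens, Γ(⨁ T', V) := fun V =>
    (biproduct.ι T' none).app V (show Γ(Coh.structureModule X, V) from (1 : Γ(X, V)))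
  have hth₀ : ∀ V : X.Opens, th f Θ (e₀ V) = (show Γ(Coh.structureModule Y, f ⁻¹ᵁ V) from (1 : Γ(Y, f ⁻¹ᵁ V))) :=
    fun V => (hΘ none V _).trans (map_one (f.app V).hom)
  have hfr : ∀ V : X.Opens, InvX.IsFrame (th f Θ (e₀ V)) := fun V => by
    rw [hth₀]; exact InvX.isFrame_one _
  obtain ⟨A⟩ := nonempty_bundle hE
  obtain ⟨r, ⟨hr, hrc⟩, -⟩ := existsUnique_isCompat' A.C A.isRelTwist A.isRelProj hE A.isTaut (θ := Θ)
    (g := f) fun y => by
      obtain ⟨V, hV, hyV, -⟩ := exists_isAffineOpen_mem_and_subset (U := ⊤) (x := f y) trivial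
      exact ⟨V, hV, e₀ V, AmpleX.le_locus _ le_rfl (by rw [AModX.res_self]; exact hfr V) hyV⟩
  haveI : IsSeparated A.p := Proj16.isSeparated A.isRelProj
  haveI : QuasiCompact (r ≫ A.p) := by rw [hr]; infer_instance
  haveI : QuasiCompact r := QuasiCompact.of_comp r A.p
  have hp : RelProj.IsProjective (r.imageι ≫ A.p) := isProjective_of_bundle A hE hEft r.imageι rfl
  haveI : IsProper (r.imageι ≫ A.p) := (Groth.Agent.S4418.result _ hp).2
  let σ : Γ(A.O1, ⊤) := AModX.res A.O1 (A.p.preimage_top.ge) (ph (φ := A.φ) (e₀ ⊤))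
  obtain ⟨u⟩ := PicClLib.nonempty_pullback_structureModule r.imageι
  let ε := u.symm.hom ≫ (Scheme.Modules.pullback r.imageι).map (InvX.ofSect σ)
  have hO1 : PicF.IsInvertible A.O1 := RelTildeX.isInvertible_twist A.C.isGenDegOne A.isRelTwist
  have hσ : ∀ (V : X.Opens) (hV : IsAffineOpen V),
      AmpleX.locus σ ⊓ A.p ⁻¹ᵁ V = dOpen A.p A.chart A.j V hV (e₀ V) := fun V hV => by
    rw [← locus_ph A hV, ← AmpleX.locus_res σ le_top]
    congr 1
    have h1 : AModX.res (⨁ T') (le_top : V ≤ ⊤) (e₀ ⊤) = e₀ V := by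
      show AModX.res _ _ ((biproduct.ι T' none).app ⊤ _) = _
      rw [← AModX.app_res]
      exact congrArg _ (map_one (X.presheaf.map (homOfLE (le_top : V ≤ ⊤)).op).hom)
    rw [← h1]
    simp only [σ, AModX.res_res]
    exact (AModX.app_res A.φ (le_top : V ≤ ⊤) (e₀ ⊤)).symm
  have hgen : CohB1.genLocus _ ε = r.imageι ⁻¹ᵁ AmpleX.locus σ := by
    rw [InvX.genLocus_pullback r.imageι hO1 _ u.symm, AmpleX.genLocus_eq_locus, InvX.one_ofSect]
  have hdom : ∀ (V : X.Opens) (hV : IsAffineOpen V), f ⁻¹ᵁ V ≤ r ⁻¹ᵁ dOpen A.p A.chart A.j V hV (e₀ V) := by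
    intro V hV x hx
    obtain ⟨z, hz, rfl⟩ := (hrc.isCompat (f ⁻¹ᵁ V)).le_dOpen A.C A.isRelTwist A.isTaut
      (r := (f ⁻¹ᵁ V).ι ≫ r) (by rw [Category.assoc, hr]) hV (e₀ V) le_rfl le_rfl
      (by rw [AModX.res_self]; exact hfr V) hx
    exact hz
  refine ⟨r.image, r.toImage, r.imageι ≫ A.p, _, ε,
    Triage.SchDense.isSchemeTheoreticallyDominant_toImage r, ?_, inferInstance,
    by rw [← Category.assoc, r.toImage_imageι, hr],
    ProjX.isRelAmple_pullback_twist A.C.isGenDegOne A.isRelTwist r.imageι _ rfl r.imageι.isEmbedding, ?_,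
    fun V hV => ?_⟩
  · haveI : QuasiCompact (r.toImage ≫ r.imageι) := by rw [r.toImage_imageι]; infer_instance
    exact QuasiCompact.of_comp r.toImage r.imageι
  · rw [hgen, ← Scheme.Hom.comp_preimage, r.toImage_imageι]
    refine top_le_iff.1 fun y _ => ?_
    obtain ⟨V, hV, hyV, -⟩ := exists_isAffineOpen_mem_and_subset (U := ⊤) (x := f y) trivial
    have h := hdom V hV hyV
    rw [← hσ V hV] at h
    exact h.1
  have hW : (r.imageι ≫ A.p) ⁻¹ᵁ V ⊓ CohB1.genLocus _ ε =
      r.imageι ⁻¹ᵁ dOpen A.p A.chart A.j V hV (e₀ V) := by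
    rw [hgen, ← hσ V hV, inf_comm, Scheme.Hom.comp_preimage]
    rfl
  refine ⟨?_, fun i e le => ?_⟩
  · rw [hW]
    exact (isAffineOpen_dOpen A.C V hV (e₀ V)).preimage r.imageι
  let m : Γ(⨁ T', V) := (biproduct.ι T' (some i)).app V e
  let D := dOpen A.p A.chart A.j V hV (e₀ V)
  let c := dFun A.p A.chart A.j V hV (e₀ V) (ratio A.C V hV (e₀ V) m)
  have key := hrc V V hV hV (e₀ V) m D (dOpen_le V hV _) (dOpen_le V hV _) c
    (taut_res A.C A.isRelTwist A.isTaut V hV (e₀ V) m) (f ⁻¹ᵁ V) (hdom V hV) le_rfl le_rfl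
  rw [AModX.res_self, AModX.res_self, hΘ, hth₀] at key
  refine ⟨r.imageι.appLE D _ hW.le c, ?_⟩
  have h1 : ∀ (q : Y ⟶ A.P) (_ : q = r) (h : f ⁻¹ᵁ V ≤ q ⁻¹ᵁ D),
      q.appLE D (f ⁻¹ᵁ V) h c = (show Γ(Y, f ⁻¹ᵁ V) from (θ i).app V e) := by
    rintro _ rfl h
    refine Eq.trans ?_ key.symm
    exact (mul_one _).symm
  have h2 := Scheme.Hom.appLE_comp_appLE r.toImage r.imageι D _ (f ⁻¹ᵁ V) hW.le le
  exact (congr($(h2).hom c)).trans (h1 _ r.toImage_imageι _)

end Groth.Agent.YBlowX
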